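import Groth.Agent.SmoothReg.Field
import Groth.Agent.VarDim.Local
import Groth.Agent.VarDim.Top
import Groth.Prelude
import Mathlib

/-! The smooth locus of a scheme over a field and regularity of its local rings. -/

universe u

set_option linter.style.haveILetI false
set_option linter.unusedSectionVars false

open CategoryTheory AlgebraicGeometry

noncomputable section

namespace Groth.Agent.SmoothReg

variable {k : Type u} [Field k] {X : Scheme.{u}} (f : X ⟶ Spec (CommRingCat.of k))

/-- The structure map `k → Γ(X, V)`. -/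
def affMap (V : X.Opens) : k →+* Γ(X, V) :=
  (f.appLE ⊤ V (by simp)).hom.comp (Scheme.ΓSpecIso (CommRingCat.of k)).inv.hom

theorem finiteType_affMap [LocallyOfFiniteType f] {V : X.Opens} (hV : IsAffineOpen V) :
    (affMap f V).FiniteType :=
  (LocallyOfFiniteType.finiteType_appLE f (isAffineOpen_top _) hV (by simp)).comp
    (RingHom.FiniteType.of_surjective _
      (ConcreteCategory.bijective_of_isIso (Scheme.ΓSpecIso (CommRingCat.of k)).inv).2)

theorem mem_smoothLocus_iff_isSmoothAt [LocallyOfFinitePresentation f] {V : X.Opens}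
    (hV : IsAffineOpen V) {x : X} (hx : x ∈ V) :
    letI := (affMap f V).toAlgebra
    x ∈ f.smoothLocus ↔ Algebra.IsSmoothAt k (hV.primeIdealOf ⟨x, hx⟩).asIdeal := by
  letI := (affMap f V).toAlgebra
  letI := (f.appLE ⊤ V (by simp)).hom.toAlgebra
  letI : Algebra k Γ(Spec (CommRingCat.of k), ⊤) :=
    (Scheme.ΓSpecIso (CommRingCat.of k)).inv.hom.toAlgebra
  haveI : IsScalarTower k Γ(Spec (CommRingCat.of k), ⊤) Γ(X, V) := .of_algebraMap_eq' rfl
  haveI : Algebra.FormallyEtale k Γ(Spec (CommRingCat.of k), ⊤) :=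
    Algebra.FormallyEtale.of_equiv (AlgEquiv.ofBijective (Algebra.ofId k _)
      (ConcreteCategory.bijective_of_isIso (Scheme.ΓSpecIso (CommRingCat.of k)).inv))
  rw [Scheme.Hom.mem_smoothLocus,
    formallySmooth_stalkMap_iff ⊤ (isAffineOpen_top _) V hV (by simp) hx]
  exact (Algebra.FormallySmooth.iff_restrictScalars (R := k)
    (A := Γ(Spec (CommRingCat.of k), ⊤))).symm

theorem exists_chart (x : X) :
    ∃ V : X.Opens, IsAffineOpen V ∧ x ∈ V := by
  obtain ⟨U, hU, hx, -⟩ := exists_isAffineOpen_mem_and_subset (x := x) (U := ⊤) trivial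
  exact ⟨U, hU, hx⟩

/-- The stalk as a localisation of the sections over an affine open. -/
def stalkEquiv {V : X.Opens} (hV : IsAffineOpen V) {x : X} (hx : x ∈ V) :
    Localization.AtPrime (hV.primeIdealOf ⟨x, hx⟩).asIdeal ≃+* X.presheaf.stalk x :=
  letI := X.presheaf.algebra_section_stalk ⟨x, hx⟩
  haveI : IsLocalization.AtPrime (X.presheaf.stalk x) (hV.primeIdealOf ⟨x, hx⟩).asIdeal :=
    hV.isLocalization_stalk ⟨x, hx⟩
  (IsLocalization.algEquiv (hV.primeIdealOf ⟨x, hx⟩).asIdeal.primeCompl _ _).toRingEquiv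

theorem stalkEquiv_algebraMap {V : X.Opens} (hV : IsAffineOpen V) {x : X} (hx : x ∈ V) (c : k) :
    letI := (affMap f V).toAlgebra
    stalkEquiv hV hx (algebraMap k _ c) =
      X.presheaf.germ ⊤ x trivial (Coh.toGlobal f c) := by
  letI := (affMap f V).toAlgebra
  letI := X.presheaf.algebra_section_stalk ⟨x, hx⟩
  haveI : IsLocalization.AtPrime (X.presheaf.stalk x) (hV.primeIdealOf ⟨x, hx⟩).asIdeal :=
    hV.isLocalization_stalk ⟨x, hx⟩
  rw [IsScalarTower.algebraMap_apply k Γ(X, V) (Localization.AtPrime _)]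
  refine (AlgEquiv.commutes _ (affMap f V c)).trans ?_
  change X.presheaf.germ V x hx (X.presheaf.map (homOfLE le_top).op _) = _
  exact X.presheaf.germ_res_apply (homOfLE le_top) x hx _

theorem isRegularLocalRing_stalk_of_mem_smoothLocus [LocallyOfFinitePresentation f] {x : X}
    (h : x ∈ f.smoothLocus) : IsRegularLocalRing (X.presheaf.stalk x) := by
  obtain ⟨V, hV, hx⟩ := exists_chart x
  letI := (affMap f V).toAlgebra
  haveI : Algebra.FiniteType k Γ(X, V) := finiteType_affMap f hV
  haveI := (mem_smoothLocus_iff_isSmoothAt f hV hx).1 h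
  haveI := CotTLib.isRegularLocalRing_of_isSmoothAt (k := k) (hV.primeIdealOf ⟨x, hx⟩).asIdeal
  exact IsRegularLocalRing.of_ringEquiv (stalkEquiv hV hx)

theorem mem_smoothLocus_iff_isRegularLocalRing [PerfectField k] [LocallyOfFinitePresentation f]
    (x : X) : x ∈ f.smoothLocus ↔ IsRegularLocalRing (X.presheaf.stalk x) := by
  refine ⟨fun h => isRegularLocalRing_stalk_of_mem_smoothLocus f h, fun h => ?_⟩
  obtain ⟨V, hV, hx⟩ := exists_chart x
  letI := (affMap f V).toAlgebra
  haveI : Algebra.FiniteType k Γ(X, V) := finiteType_affMap f hV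
  rw [mem_smoothLocus_iff_isSmoothAt f hV hx, isSmoothAt_iff_isRegularLocalRing]
  exact IsRegularLocalRing.of_ringEquiv (stalkEquiv hV hx).symm

/-- The residue field at a point as a residue field of an affine chart. -/
def residueEquiv {V : X.Opens} (hV : IsAffineOpen V) {x : X} (hx : x ∈ V)
    [Algebra k (X.residueField x)]
    (hcomp : ∀ c, algebraMap k (X.residueField x) c =
      X.residue x (X.presheaf.germ ⊤ x trivial (Coh.toGlobal f c))) :
    letI := (affMap f V).toAlgebra
    (hV.primeIdealOf ⟨x, hx⟩).asIdeal.ResidueField ≃ₐ[k] X.residueField x :=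
  letI := (affMap f V).toAlgebra
  AlgEquiv.ofRingEquiv (f := IsLocalRing.ResidueField.mapEquiv (stalkEquiv hV hx)) fun c => by
    rw [hcomp, ← stalkEquiv_algebraMap f hV hx c,
      IsScalarTower.algebraMap_apply k (Localization.AtPrime (hV.primeIdealOf ⟨x, hx⟩).asIdeal)
        (hV.primeIdealOf ⟨x, hx⟩).asIdeal.ResidueField]
    rfl

/-- A regular point with separable residue field is in the smooth locus. -/
theorem mem_smoothLocus_of_isSeparable [LocallyOfFinitePresentation f] (x : X)
    [Algebra k (X.residueField x)] [Algebra.IsSeparable k (X.residueField x)]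
    (hcomp : ∀ c, algebraMap k (X.residueField x) c =
      X.residue x (X.presheaf.germ ⊤ x trivial (Coh.toGlobal f c)))
    (h : IsRegularLocalRing (X.presheaf.stalk x)) : x ∈ f.smoothLocus := by
  obtain ⟨V, hV, hx⟩ := exists_chart x
  letI := (affMap f V).toAlgebra
  haveI : Algebra.FiniteType k Γ(X, V) := finiteType_affMap f hV
  rw [mem_smoothLocus_iff_isSmoothAt f hV hx]
  let p := (hV.primeIdealOf ⟨x, hx⟩).asIdeal
  let e := stalkEquiv hV hx
  let er : p.ResidueField ≃ₐ[k] X.residueField x := residueEquiv f hV hx hcomp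
  haveI : Algebra.IsSeparable k p.ResidueField := Algebra.IsSeparable.of_algHom k (X.residueField x) er.toAlgHom
  haveI := Algebra.FormallyEtale.of_isSeparable k p.ResidueField
  exact isSmoothAt_of_isRegularLocalRing p (IsRegularLocalRing.of_ringEquiv e.symm)

/-- At a closed point of an irreducible scheme of finite type, the stalk has the dimension of the scheme. -/
theorem ringKrullDim_stalk_closedPoint [LocallyOfFiniteType f] [IrreducibleSpace X] {x : X}
    (hx : IsClosed ({x} : Set X)) :
    ringKrullDim (X.presheaf.stalk x) = topologicalKrullDim X := by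
  obtain ⟨b, hb, ⟨η, hη, hηb⟩, hle⟩ := VarDim.exists_deg_add_stalk f x
  have h0 := (VarDim.closedPoint_iff_deg_eq_zero f x).1 hx
  have h1 := hle _ (genericPoint_specializes x)
  have h2 := VarDim.deg_le_of_specializes f (genericPoint_specializes η)
  have h3 : VarDim.deg f (genericPoint X) = b := by omega
  rw [hb, VarDim.topologicalKrullDim_eq_deg_genericPoint f, h3]
  rfl

end Groth.Agent.SmoothReg

end
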