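import Groth.Agent.GeomReg.Basic
import Groth.Agent.RegLoc6.Descent
import Groth.Agent.RegLoc6.Serre
import Groth.Agent.MorLib.SmoothAlg
import Mathlib

/-! Regularity after finite purely inseparable extensions gives regularity after finitely generated
field extensions. -/

universe u

set_option backward.isDefEq.respectTransparency false
set_option backward.isDefEq.respectTransparency.types false

open TensorProduct

set_option linter.style.haveILetI false

namespace Groth.Agent.SmoothReg

/-- Regularity descends along faithfully flat maps of Noetherian rings. -/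
theorem isRegularRing_of_faithfullyFlat (T B : Type u) [CommRing T] [CommRing B] [Algebra T B]
    [IsNoetherianRing T] [IsRegularRing B] [Module.FaithfullyFlat T B] : IsRegularRing T := by
  rw [isRegularRing_iff]
  intro q _
  obtain ⟨⟨q', hq'⟩, hlo⟩ := PrimeSpectrum.comap_surjective_of_faithfullyFlat (A := T) (B := B) ⟨q, ‹_›⟩
  haveI := hq'
  haveI : q'.LiesOver q := ⟨(congrArg PrimeSpectrum.asIdeal hlo).symm⟩
  letI := Localization.AtPrime.algebraOfLiesOver q q'
  haveI : IsLocalHom (algebraMap (Localization.AtPrime q) (Localization.AtPrime q')) :=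
    Localization.isLocalHom_localRingHom q q' (algebraMap T B) _
  haveI : Module.Flat (Localization.AtPrime q) (Localization.AtPrime q') :=
    (Module.flat_iff_of_isLocalization (Localization.AtPrime q) q.primeCompl _).mpr
      (Module.Flat.trans T B _)
  haveI := IsRegularRing.isRegularLocalRing_localization (R := B) q'
  exact RegLoc6.isRegularLocalRing_of_flat (B := Localization.AtPrime q')

variable (k : Type u) [Field k]

/-- An element of a base change to an extension comes from a finite piece. -/
theorem exists_finset_range (P : Type u) [Field P] [Algebra k P] (S : Type u) [CommRing S] [Algebra k S]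
    (x : P ⊗[k] S) : ∃ s : Finset P, ∀ E : IntermediateField k P, ↑s ⊆ (E : Set P) →
      x ∈ Set.range (Algebra.TensorProduct.map E.val (AlgHom.id k S)) := by
  classical
  induction x using TensorProduct.induction_on with
  | zero => exact ⟨∅, fun E _ => ⟨0, map_zero _⟩⟩
  | tmul p s => exact ⟨{p}, fun E hE => ⟨(⟨p, hE (by simp)⟩ : E) ⊗ₜ s, rfl⟩⟩
  | add x y hx hy =>
    obtain ⟨s, hs⟩ := hx
    obtain ⟨t, ht⟩ := hy
    refine ⟨s ∪ t, fun E hE => ?_⟩
    obtain ⟨a, ha⟩ := hs E ((Finset.coe_subset.2 Finset.subset_union_left).trans hE)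
    obtain ⟨b, hb⟩ := ht E ((Finset.coe_subset.2 Finset.subset_union_right).trans hE)
    exact ⟨a + b, by rw [map_add, ha, hb]⟩

/-- The reduction stays reduced over `P` if the nilradical over `P` comes from `E`. -/
theorem isReduced_tensor_reduction (S : Type u) [CommRing S] [Algebra k S] (E P : Type u) [Field E] [Field P]
    [Algebra k E] [Algebra k P] [Algebra E P] [IsScalarTower k E P] (gens : Set (P ⊗[k] S))
    (hgens : Ideal.span gens = nilradical (P ⊗[k] S))
    (hc : ∀ g ∈ gens, g ∈ Set.range (Algebra.TensorProduct.map (IsScalarTower.toAlgHom k E P) (AlgHom.id k S))) :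
    _root_.IsReduced (P ⊗[E] ((E ⊗[k] S) ⧸ nilradical (E ⊗[k] S))) := by
  let ι : E ⊗[k] S →ₐ[E] P ⊗[k] S :=
    Algebra.TensorProduct.map (Algebra.ofId E P) (AlgHom.id k S)
  have hιeq : ∀ z, ι z = Algebra.TensorProduct.map (IsScalarTower.toAlgHom k E P) (AlgHom.id k S) z := fun z => by
    induction z using TensorProduct.induction_on with
    | zero => simp
    | tmul a b => rfl
    | add x y hx hy => rw [map_add, map_add, hx, hy]
  have hιinj : Function.Injective ι := fun a b h => by
    rw [hιeq, hιeq] at h
    exact Module.Flat.rTensor_preserves_injective_linearMap (M := S)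
      (IsScalarTower.toAlgHom k E P).toLinearMap (algebraMap E P).injective h
  let T' := E ⊗[k] S
  letI : CommRing T' := Algebra.TensorProduct.instCommRing
  let S' := T' ⧸ nilradical T'
  letI : CommRing S' := Ideal.Quotient.commRing _
  let ψ : P ⊗[k] S →ₐ[P] P ⊗[E] S' :=
    Algebra.TensorProduct.lift (Algebra.ofId P _)
      (((Algebra.TensorProduct.includeRight : S' →ₐ[E] P ⊗[E] S').restrictScalars k).comp
        ((Ideal.Quotient.mkₐ k (nilradical T')).comp Algebra.TensorProduct.includeRight))
      fun _ _ => show _ * _ = _ * _ from mul_comm _ _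
  have hψι : ∀ z, ψ (ι z) = 1 ⊗ₜ[E] (Ideal.Quotient.mk (nilradical T') z) := by
    intro z
    induction z using TensorProduct.induction_on with
    | zero => simp
    | tmul a s =>
      have : ι (a ⊗ₜ s) = algebraMap E P a ⊗ₜ[k] s := rfl
      rw [this]
      show algebraMap P (P ⊗[E] S') (algebraMap E P a) *
        ((1 : P) ⊗ₜ[E] Ideal.Quotient.mk (nilradical T') ((1 : E) ⊗ₜ[k] s)) = _
      rw [show (a ⊗ₜ[k] s : T') = algebraMap E T' a * ((1 : E) ⊗ₜ[k] s) by
            rw [Algebra.TensorProduct.algebraMap_apply, Algebra.TensorProduct.tmul_mul_tmul]; simp,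
        map_mul, Algebra.TensorProduct.algebraMap_apply, Algebra.TensorProduct.tmul_mul_tmul]
      simp only [Algebra.algebraMap_self_apply, one_mul, mul_one]
      rw [show Ideal.Quotient.mk (nilradical T') (algebraMap E T' a) *
          Ideal.Quotient.mk (nilradical T') ((1 : E) ⊗ₜ[k] s) =
          a • Ideal.Quotient.mk (nilradical T') ((1 : E) ⊗ₜ[k] s) from
        (Algebra.smul_def a (Ideal.Quotient.mk (nilradical T') ((1 : E) ⊗ₜ[k] s))).symm,
        ← TensorProduct.smul_tmul]
      rw [Algebra.smul_def, mul_one]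
    | add x y hx hy => rw [map_add, map_add, hx, hy, map_add, TensorProduct.tmul_add]
  have hkill : nilradical (P ⊗[k] S) ≤ RingHom.ker ψ.toRingHom := by
    rw [← hgens, Submodule.span_le]
    intro g hg
    obtain ⟨z, hz⟩ := hc g hg
    rw [← hιeq] at hz
    subst hz
    have hnil : IsNilpotent z := by
      obtain ⟨n, hn⟩ := mem_nilradical.1 (hgens ▸ Submodule.subset_span hg : ι z ∈ nilradical (P ⊗[k] S))
      exact ⟨n, hιinj (by rw [map_pow, hn, map_zero])⟩
    show ψ (ι z) = 0
    rw [hψι, Ideal.Quotient.eq_zero_iff_mem.2 (mem_nilradical.2 hnil), TensorProduct.tmul_zero]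
  let Q := (P ⊗[k] S) ⧸ nilradical (P ⊗[k] S)
  let j : S' →ₐ[E] Q := Ideal.Quotient.liftₐ _ ((Ideal.Quotient.mkₐ E _).comp ι) fun z hz => by
    show Ideal.Quotient.mk _ (ι z) = 0
    exact Ideal.Quotient.eq_zero_iff_mem.2 (mem_nilradical.2 ((mem_nilradical.1 hz).map ι))
  let χ : P ⊗[E] S' →ₐ[P] Q := Algebra.TensorProduct.lift (Algebra.ofId P Q) j fun _ _ => show _ * _ = _ * _ from mul_comm _ _
  have hχψ : ∀ t, χ (ψ t) = Ideal.Quotient.mk _ t := by
    suffices h : χ.comp ψ = Ideal.Quotient.mkₐ P _ from fun t => AlgHom.congr_fun h t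
    refine Algebra.TensorProduct.ext (Subsingleton.elim _ _) (AlgHom.ext fun s => ?_)
    show χ (ψ ((1 : P) ⊗ₜ[k] s)) = Ideal.Quotient.mk _ ((1 : P) ⊗ₜ[k] s)
    rw [show ((1 : P) ⊗ₜ[k] s : P ⊗[k] S) = ι ((1 : E) ⊗ₜ[k] s) by
      show _ = algebraMap E P 1 ⊗ₜ[k] s; rw [map_one], hψι]
    rw [Algebra.TensorProduct.lift_tmul, map_one, one_mul]
    rfl
  have hψs : Function.Surjective ψ := fun w => by
    induction w using TensorProduct.induction_on with
    | zero => exact ⟨0, map_zero ψ⟩
    | add x y hx hy =>
      obtain ⟨a, rfl⟩ := hx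
      obtain ⟨b, rfl⟩ := hy
      exact ⟨a + b, map_add ψ a b⟩
    | tmul p s' =>
      obtain ⟨z, rfl⟩ := Ideal.Quotient.mk_surjective s'
      refine ⟨algebraMap P _ p * ι z, ?_⟩
      rw [map_mul, AlgHom.commutes, hψι, Algebra.TensorProduct.algebraMap_apply,
        Algebra.TensorProduct.tmul_mul_tmul]
      simp
  refine ⟨fun w hw => ?_⟩
  obtain ⟨t, rfl⟩ := hψs w
  have : t ∈ nilradical (P ⊗[k] S) := by
    rw [← Ideal.Quotient.eq_zero_iff_mem, ← hχψ]
    haveI : _root_.IsReduced Q :=
      (Ideal.isRadical_iff_quotient_reduced _).1 (Ideal.radical_isRadical _)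
    exact (hw.map χ).eq_zero
  exact hkill this

/-- After a finite purely inseparable extension the reduction of an algebra of finite type stays
reduced over the perfect closure. -/
theorem exists_reduced_model (S : Type u) [CommRing S] [Algebra k S] [Algebra.FiniteType k S] :
    ∃ (E : Type u) (_ : Field E) (_ : Algebra k E) (P : Type u) (_ : Field P) (_ : Algebra E P),
      PerfectField P ∧ FiniteDimensional k E ∧ IsPurelyInseparable k E ∧
        _root_.IsReduced (P ⊗[E] ((E ⊗[k] S) ⧸ nilradical (E ⊗[k] S))) := by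
  classical
  let P := perfectClosure k (AlgebraicClosure k)
  haveI : IsNoetherianRing (TensorProduct k P S) := by
    have key : ∀ (Q : Type u) [Field Q] [Algebra k Q], IsNoetherianRing (Q ⊗[k] S) :=
      fun Q _ _ => Algebra.FiniteType.isNoetherianRing Q _
    exact key P
  obtain ⟨gens, hgens⟩ := (IsNoetherian.noetherian (nilradical (P ⊗[k] S)) : Submodule.FG _)
  choose c hc using exists_finset_range k P S
  let E : IntermediateField k P := IntermediateField.adjoin k ↑(gens.biUnion c)
  haveI hfin : FiniteDimensional k E := IntermediateField.finiteDimensional_adjoin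
    fun x _ => (Algebra.IsAlgebraic.isAlgebraic (R := k) x).isIntegral
  haveI : IsPurelyInseparable k E := IsPurelyInseparable.tower_bot k E P
  refine ⟨E, inferInstance, inferInstance, P, inferInstance, inferInstance, inferInstance, hfin,
    inferInstance, isReduced_tensor_reduction k S E P ↑gens hgens fun g hg => ?_⟩
  obtain ⟨z, hz⟩ := hc g E ((Finset.coe_subset.2 (Finset.subset_biUnion_of_mem c hg)).trans
    (IntermediateField.subset_adjoin k _))
  exact ⟨z, hz⟩

variable {k}

/-- The minimal primes of a free extension of a domain contract to zero. -/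
theorem injective_to_localization (E : Type u) [Field E] [Algebra k E] (S : Type u) [CommRing S] [IsDomain S]
    [Algebra k S] (η : Ideal ((E ⊗[k] S) ⧸ nilradical (E ⊗[k] S))) [η.IsPrime]
    (hη : η ∈ minimalPrimes ((E ⊗[k] S) ⧸ nilradical (E ⊗[k] S))) :
    Function.Injective fun s : S => algebraMap _ (Localization.AtPrime η)
      (Ideal.Quotient.mk (nilradical (E ⊗[k] S)) ((1 : E) ⊗ₜ[k] s)) := by
  let T' := E ⊗[k] S
  intro s₁ s₂ h₁₂
  by_contra hne
  let s := s₁ - s₂
  have hs0 : s ≠ 0 := sub_ne_zero.2 hne
  have hs : algebraMap _ (Localization.AtPrime η)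
      (Ideal.Quotient.mk (nilradical T') ((1 : E) ⊗ₜ[k] s)) = 0 := by
    simp only [s, TensorProduct.tmul_sub, map_sub]
    exact sub_eq_zero.2 h₁₂
  have hmem : Ideal.Quotient.mk (nilradical T') ((1 : E) ⊗ₜ[k] s) ∈ η := by
    by_contra h
    exact (IsLocalization.map_units (Localization.AtPrime η) (⟨_, h⟩ : η.primeCompl)).ne_zero hs
  have hη' : η.comap (Ideal.Quotient.mk (nilradical T')) ∈ minimalPrimes T' := by
    refine ⟨⟨Ideal.comap_isPrime _ _, bot_le⟩, fun Q hQ hle => ?_⟩
    haveI := hQ.1
    have hker : RingHom.ker (Ideal.Quotient.mk (nilradical T')) ≤ Q := by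
      rw [Ideal.mk_ker]; exact nilradical_le_prime Q
    have := hη.2 ⟨Ideal.map_isPrime_of_surjective Ideal.Quotient.mk_surjective hker, bot_le⟩
      (Ideal.map_le_iff_le_comap.2 hle)
    refine (Ideal.comap_mono this).trans ?_
    rw [Ideal.comap_map_of_surjective _ Ideal.Quotient.mk_surjective, ← RingHom.ker_eq_comap_bot]
    exact sup_le le_rfl hker
  have hinj : Function.Injective (fun z : T' => ((1 : E) ⊗ₜ[k] s) * z) := by
    have h1 : Function.Injective (LinearMap.mulLeft k s) := fun a b h => mul_left_cancel₀ hs0 h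
    have h2 := Module.Flat.lTensor_preserves_injective_linearMap (M := E) (LinearMap.mulLeft k s) h1
    have h3 : ∀ z : T', ((1 : E) ⊗ₜ[k] s) * z = (LinearMap.mulLeft k s).lTensor E z := fun z => by
      induction z using TensorProduct.induction_on with
      | zero => simp
      | tmul a b =>
        exact (Algebra.TensorProduct.tmul_mul_tmul _ _ _ _).trans
          (by rw [one_mul, LinearMap.lTensor_tmul, LinearMap.mulLeft_apply])
      | add x y hx hy => rw [mul_add, hx, hy, map_add]
    intro a b h
    exact h2 (by rw [← h3, ← h3]; exact h)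
  obtain ⟨x, hx, hsx⟩ := Ideal.exists_mul_mem_of_mem_minimalPrimes hη' hmem
  rw [Ideal.mem_bot] at hsx
  exact hx (by simpa using hinj (hsx.trans (mul_zero _).symm))


attribute [local instance] Algebra.TensorProduct.rightAlgebra in
/-- A minimal prime is smooth if the base change to a perfect field is reduced. -/
theorem isSmoothAt_minimal (E P : Type u) [Field E] [Field P] [PerfectField P] [Algebra E P]
    (S' : Type u) [CommRing S'] [Algebra E S'] [Algebra.FiniteType E S'] [_root_.IsReduced (P ⊗[E] S')]
    (η : Ideal S') [η.IsPrime] (hη : η ∈ minimalPrimes S') : Algebra.IsSmoothAt E η := by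
    haveI : Algebra.FinitePresentation E S' :=
      (Algebra.FinitePresentation.of_finiteType (R := E) (A := S')).1 inferInstance
    haveI : Module.Flat S' (P ⊗[E] S') := MorLib.SmoothAlg.flat_base
    haveI : Module.FaithfullyFlat S' (S' ⊗[E] P) := inferInstance
    obtain ⟨⟨Q₁, hQ₁⟩, hlo⟩ := PrimeSpectrum.comap_surjective_of_faithfullyFlat (A := S') (B := S' ⊗[E] P) ⟨η, ‹_›⟩
    let e : P ⊗[E] S' ≃ₐ[E] S' ⊗[E] P := Algebra.TensorProduct.comm E P S'
    let Q₀ : Ideal (P ⊗[E] S') := Q₁.comap e.toAlgHom.toRingHom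
    haveI : Q₀.IsPrime := Ideal.comap_isPrime _ _
    obtain ⟨q, hq, hqQ⟩ := Ideal.exists_minimalPrimes_le (bot_le : ⊥ ≤ Q₀)
    haveI := hq.1.1
    have hle : q.under S' ≤ η := fun x hx => by
      have h1 : e ((1 : P) ⊗ₜ[E] x) ∈ Q₁ := hqQ hx
      have h2 : e ((1 : P) ⊗ₜ[E] x) = algebraMap S' (S' ⊗[E] P) x := rfl
      rw [h2] at h1
      exact (congrArg PrimeSpectrum.asIdeal hlo).le h1
    have heq : q.under S' = η := le_antisymm hle (hη.2 ⟨inferInstance, bot_le⟩ hle)
    haveI : IsNoetherianRing (P ⊗[E] S') := Algebra.FiniteType.isNoetherianRing P _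
    haveI : Ring.KrullDimLE 0 (Localization.AtPrime q) := Ring.krullDimLE_iff.2 (by
      rw [IsLocalization.AtPrime.ringKrullDim_eq_height q, Ideal.height_eq_zero_iff.2 hq]
      exact le_rfl)
    haveI := IsNoetherianRing.isArtinianRing_of_krullDimLE_zero (R := Localization.AtPrime q)
    have hq' : Algebra.IsSmoothAt P q := by
      show Algebra.FormallySmooth P (Localization.AtPrime q)
      letI := (IsArtinianRing.isField_of_isReduced_of_isLocalRing (Localization.AtPrime q)).toField
      haveI : Algebra.EssFiniteType P (Localization.AtPrime q) :=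
        Algebra.EssFiniteType.comp P (P ⊗[E] S') (Localization.AtPrime q)
      infer_instance
    have := MorLib.SmoothAlg.isSmoothAt_descend q hq'
    have key : ∀ (p : Ideal S') [p.IsPrime], p = η → Algebra.IsSmoothAt E p → Algebra.IsSmoothAt E η := by
      intro p _ h hp; subst h; exact hp
    exact key _ heq this

theorem exists_minimalPrime (R : Type u) [CommRing R] [Nontrivial R] : ∃ η, η ∈ minimalPrimes R :=
  let ⟨⟨η, hη⟩⟩ := Ideal.nonempty_minimalPrimes (I := (⊥ : Ideal R)) bot_ne_top; ⟨η, hη⟩

/-- The field of functions at a smooth minimal prime. -/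
theorem exists_smooth_model_aux (K : Type u) [Field K] [Algebra k K] [Algebra.EssFiniteType k K]
    (E : Type u) [Field E] [Algebra k E] (P : Type u) [Field P] [PerfectField P] [Algebra E P]
    (S' : Type u) [CommRing S'] [_root_.IsReduced S'] [Algebra E S'] [Algebra k S'] [IsScalarTower k E S']
    [Algebra.FiniteType E S'] [_root_.IsReduced (P ⊗[E] S')] (η : Ideal S') [η.IsPrime]
    (hη : η ∈ minimalPrimes S') (f : Algebra.EssFiniteType.subalgebra k K →ₐ[k] S')
    (hf : Function.Injective fun s => algebraMap S' (Localization.AtPrime η) (f s)) :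
    ∃ (F : Type u) (_ : Field F) (_ : Algebra k F) (_ : Algebra E F) (_ : IsScalarTower k E F)
      (_ : Algebra K F) (_ : IsScalarTower k K F)
      (D : Type u) (_ : CommRing D) (_ : Algebra E D) (_ : Algebra.Smooth E D) (_ : Algebra D F)
      (_ : IsScalarTower E D F) (M : Submonoid D), IsLocalization M F := by
  haveI : IsNoetherianRing S' := Algebra.FiniteType.isNoetherianRing E S'
  haveI : Algebra.FinitePresentation E S' :=
    (Algebra.FinitePresentation.of_finiteType (R := E) (A := S')).1 inferInstance
  haveI hsm : Algebra.IsSmoothAt E η := isSmoothAt_minimal E P S' η hη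
  obtain ⟨g, hg, hgs⟩ := Algebra.IsSmoothAt.exists_notMem_smooth (R := E) η
  haveI : Ring.KrullDimLE 0 (Localization.AtPrime η) := Ring.krullDimLE_iff.2 (by
    rw [IsLocalization.AtPrime.ringKrullDim_eq_height η, Ideal.height_eq_zero_iff.2 hη]
    exact le_rfl)
  haveI := IsNoetherianRing.isArtinianRing_of_krullDimLE_zero (R := Localization.AtPrime η)
  let F := Localization.AtPrime η
  letI : Field F := (IsArtinianRing.isField_of_isReduced_of_isLocalRing (Localization.AtPrime η)).toField
  let φ := ((IsScalarTower.toAlgHom E S' F).restrictScalars k).comp f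
  have hsub : ∀ y : Algebra.EssFiniteType.submonoid k K, IsUnit (φ y) := fun y => by
    refine isUnit_iff_ne_zero.2 fun h => ?_
    have h0 : (y : Algebra.EssFiniteType.subalgebra k K) = 0 :=
      hf (by show φ y = φ 0; rw [h, map_zero])
    exact not_isUnit_zero (M₀ := K) (by
      have := y.2
      rw [h0] at this
      exact this)
  let ψ : K →ₐ[k] F := IsLocalization.liftAlgHom (M := Algebra.EssFiniteType.submonoid k K) hsub
  letI : Algebra K F := ψ.toRingHom.toAlgebra
  have hle : Submonoid.powers g ≤ η.primeCompl := Submonoid.powers_le.2 hg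
  letI : Algebra (Localization.Away g) F :=
    (IsLocalization.map F (RingHom.id S') (show Submonoid.powers g ≤ η.primeCompl.comap (RingHom.id S') from
      fun x hx => hle hx) : Localization.Away g →+* F).toAlgebra
  haveI : IsScalarTower S' (Localization.Away g) F := .of_algebraMap_eq fun x => by
    rw [RingHom.algebraMap_toAlgebra, IsLocalization.map_eq, RingHom.id_apply]
  haveI : IsScalarTower E (Localization.Away g) F := .to₁₃₄ E S' (Localization.Away g) F
  exact ⟨F, inferInstance, inferInstance,
    inferInstance, .to₁₂₄ k E S' F, inferInstance, .of_algebraMap_eq' ψ.comp_algebraMap.symm,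
    Localization.Away g, inferInstance, inferInstance, hgs, inferInstance, inferInstance,
    _, IsLocalization.isLocalization_of_submonoid_le (Localization.Away g) F _ η.primeCompl hle⟩

set_option maxHeartbeats 1600000 in
/-- A finite purely inseparable extension after which a finitely generated field has a smooth model. -/
theorem exists_smooth_model (K : Type u) [Field K] [Algebra k K] [Algebra.EssFiniteType k K] :
    ∃ (E : Type u) (_ : Field E) (_ : Algebra k E) (_ : FiniteDimensional k E) (_ : IsPurelyInseparable k E)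
      (F : Type u) (_ : Field F) (_ : Algebra k F) (_ : Algebra E F) (_ : IsScalarTower k E F)
      (_ : Algebra K F) (_ : IsScalarTower k K F)
      (D : Type u) (_ : CommRing D) (_ : Algebra E D) (_ : Algebra.Smooth E D) (_ : Algebra D F)
      (_ : IsScalarTower E D F) (M : Submonoid D), IsLocalization M F := by
  obtain ⟨E, _, _, P, _, _, _, _, _, hred⟩ :=
    exists_reduced_model k (Algebra.EssFiniteType.subalgebra k K)
  let T' := E ⊗[k] Algebra.EssFiniteType.subalgebra k K
  haveI : Nontrivial T' := Module.FaithfullyFlat.lTensor_nontrivial k E _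
  haveI : _root_.IsReduced (T' ⧸ nilradical T') :=
    (Ideal.isRadical_iff_quotient_reduced _).1 (Ideal.radical_isRadical _)
  haveI : Nontrivial (T' ⧸ nilradical T') := Ideal.Quotient.nontrivial_iff.2 (by
    rw [Ne, Ideal.eq_top_iff_one, mem_nilradical]; exact not_isNilpotent_one)
  haveI : Algebra.FiniteType E (T' ⧸ nilradical T') :=
    Algebra.FiniteType.trans (S := T') inferInstance inferInstance
  obtain ⟨η, hη⟩ := exists_minimalPrime (T' ⧸ nilradical T')
  haveI := hη.1.1
  haveI : IsScalarTower k E (T' ⧸ nilradical T') := inferInstance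
  obtain ⟨F, h₁, h₂, h₃, h₄, h₅, h₆, D, h₇, h₈, h₉, h₁₀, h₁₁, M, h₁₂⟩ :=
    exists_smooth_model_aux K E P (T' ⧸ nilradical T') η hη
      ((Ideal.Quotient.mkₐ k (nilradical T')).comp Algebra.TensorProduct.includeRight)
      (injective_to_localization E _ η hη)
  exact ⟨E, inferInstance, inferInstance, inferInstance, inferInstance, F, h₁, h₂, h₃, h₄, h₅, h₆,
    D, h₇, h₈, h₉, h₁₀, h₁₁, M, h₁₂⟩

/-- **Regularity after all finitely generated extensions is tested on finite purely inseparable ones.** -/
theorem isRegularRing_tensor_of_purelyInseparable (A : Type u) [CommRing A] [Algebra k A]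
    [IsNoetherianRing A]
    (h : ∀ (k' : Type u) [Field k'] [Algebra k k'] [FiniteDimensional k k'] [IsPurelyInseparable k k'],
      IsRegularRing (A ⊗[k] k'))
    (K : Type u) [Field K] [Algebra k K] [Algebra.EssFiniteType k K] : IsRegularRing (A ⊗[k] K) := by
  obtain ⟨E, _, _, _, _, F, _, _, _, _, _, _, D, _, _, _, _, _, M, _⟩ := exists_smooth_model (k := k) K
  haveI := h E
  let A' := E ⊗[k] A
  haveI : IsRegularRing A' := IsRegularRing.of_ringEquiv (Algebra.TensorProduct.comm k A E).toRingEquiv
  haveI : IsRegularRing (A' ⊗[E] D) := GeomReg.isRegularRing_of_smooth A' (A' ⊗[E] D)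
  haveI : IsRegularRing (D ⊗[E] A') :=
    IsRegularRing.of_ringEquiv (Algebra.TensorProduct.comm E A' D).toRingEquiv
  haveI : IsRegularRing (F ⊗[D] (D ⊗[E] A')) := by
    letI : Algebra (D ⊗[E] A') (F ⊗[D] (D ⊗[E] A')) := Algebra.TensorProduct.rightAlgebra
    exact GeomReg.isRegularRing_of_isLocalization (Algebra.algebraMapSubmonoid (D ⊗[E] A') M) _
  haveI : IsRegularRing (F ⊗[E] A') :=
    IsRegularRing.of_ringEquiv (Algebra.TensorProduct.cancelBaseChange E D D F A').toRingEquiv
  haveI : IsRegularRing (F ⊗[k] A) :=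
    IsRegularRing.of_ringEquiv (Algebra.TensorProduct.cancelBaseChange k E E F A).toRingEquiv
  haveI : IsRegularRing (F ⊗[K] (K ⊗[k] A)) :=
    IsRegularRing.of_ringEquiv (Algebra.TensorProduct.cancelBaseChange k K K F A).symm.toRingEquiv
  haveI : IsRegularRing ((K ⊗[k] A) ⊗[K] F) :=
    IsRegularRing.of_ringEquiv (Algebra.TensorProduct.comm K F (K ⊗[k] A)).toRingEquiv
  haveI : IsNoetherianRing (K ⊗[k] A) := by
    let S := Algebra.EssFiniteType.subalgebra k K
    haveI : IsNoetherianRing (A ⊗[k] S) := Algebra.FiniteType.isNoetherianRing A _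
    haveI : IsNoetherianRing (S ⊗[k] A) :=
      isNoetherianRing_of_ringEquiv _ (Algebra.TensorProduct.comm k A S).toRingEquiv
    haveI : IsNoetherianRing (K ⊗[S] (S ⊗[k] A)) := by
      letI : Algebra (S ⊗[k] A) (K ⊗[S] (S ⊗[k] A)) := Algebra.TensorProduct.rightAlgebra
      exact IsLocalization.isNoetherianRing (Algebra.algebraMapSubmonoid (S ⊗[k] A)
        (Algebra.EssFiniteType.submonoid k K)) (K ⊗[S] (S ⊗[k] A)) inferInstance
    exact isNoetherianRing_of_ringEquiv _ (Algebra.TensorProduct.cancelBaseChange k S S K A).toRingEquiv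
  haveI : IsRegularRing (K ⊗[k] A) := isRegularRing_of_faithfullyFlat _ ((K ⊗[k] A) ⊗[K] F)
  exact IsRegularRing.of_ringEquiv (Algebra.TensorProduct.comm k K A).toRingEquiv

end Groth.Agent.SmoothReg
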