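import Groth.Agent.GeomField.Chart
import Groth.Agent.SmoothReg.GeomRegular
import Mathlib

/-! Geometric regularity at a point and of its local ring. -/

universe u

open CategoryTheory CategoryTheory.Limits AlgebraicGeometry TensorProduct

set_option backward.isDefEq.respectTransparency false
set_option backward.isDefEq.respectTransparency.types false
set_option linter.style.haveILetI false

attribute [local instance] Curv2.stalkAlgebra

namespace Groth.Agent.SmoothReg

open Groth.Agent.GeomField

variable {k : Type u} [Field k] {X : Scheme.{u}} [X.Over (Spec (CommRingCat.of k))]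

theorem isRegularLocalRing_stalk_bcEmb_iff (c : Chart k X) (K : Type u) [Field K] [Algebra k K]
    (Q : Spec (CommRingCat.of (c.R ⊗[k] K))) :
    IsRegularLocalRing ((Curv2.bc k X K).presheaf.stalk (c.bcEmb K Q)) ↔
      IsRegularLocalRing (Localization.AtPrime (PrimeSpectrum.asIdeal (R := c.R ⊗[k] K) Q)) := by
  let e₁ : (Spec.structureSheaf (c.R ⊗[k] K)).presheaf.stalk Q ≃ₐ[c.R ⊗[k] K]
      Localization.AtPrime (PrimeSpectrum.asIdeal (R := c.R ⊗[k] K) Q) :=
    IsLocalization.algEquiv (PrimeSpectrum.asIdeal (R := c.R ⊗[k] K) Q).primeCompl _ _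
  let e : (Curv2.bc k X K).presheaf.stalk (c.bcEmb K Q) ≃+*
      Localization.AtPrime (PrimeSpectrum.asIdeal (R := c.R ⊗[k] K) Q) :=
    (asIso ((c.bcEmb K).stalkMap Q)).commRingCatIsoToRingEquiv.trans e₁.toRingEquiv
  exact ⟨fun _ => IsRegularLocalRing.of_ringEquiv e, fun _ => IsRegularLocalRing.of_ringEquiv e.symm⟩

/-- The base change of a local ring is regular at a prime iff the chart is regular at the prime below. -/
theorem isRegularLocalRing_tensor_localization_iff {R A K : Type u} [CommRing R] [CommRing A] [Field K]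
    [Algebra k R] [Algebra k A] [Algebra k K] [Algebra R A] [IsScalarTower k R A] (M : Submonoid R)
    [IsLocalization M A] (q : Ideal (A ⊗[k] K)) [q.IsPrime] :
    IsRegularLocalRing (Localization.AtPrime q) ↔
      IsRegularLocalRing (Localization.AtPrime
        (q.comap (Algebra.TensorProduct.map (IsScalarTower.toAlgHom k R A) (AlgHom.id k K)))) := by
  letI : Algebra (R ⊗[k] K) (A ⊗[k] K) :=
    (Algebra.TensorProduct.map (IsScalarTower.toAlgHom k R A) (AlgHom.id k K)).toRingHom.toAlgebra
  haveI : IsScalarTower R (R ⊗[k] K) (A ⊗[k] K) := .of_algebraMap_eq fun r => by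
    show algebraMap R A r ⊗ₜ[k] (1 : K) = Algebra.TensorProduct.map _ _ (r ⊗ₜ[k] (1 : K))
    rw [Algebra.TensorProduct.map_tmul, map_one]
    rfl
  haveI : IsLocalization (Algebra.algebraMapSubmonoid (R ⊗[k] K) M) (A ⊗[k] K) :=
    IsLocalization.tensorProduct_tensorProduct k K M A (RingHom.ext fun z => by
      show Algebra.TensorProduct.map _ _ ((1 : R) ⊗ₜ[k] z) = (1 : A) ⊗ₜ[k] z
      rw [Algebra.TensorProduct.map_tmul, map_one]
      rfl)
  exact RegLoc6.regular_iff_localization (Algebra.algebraMapSubmonoid (R ⊗[k] K) M) (A ⊗[k] K) q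

/-- A prime over the closed point in the chart extends to the base change of the local ring. -/
theorem exists_prime_comap {R A K : Type u} [CommRing R] [CommRing A] [Field K]
    [Algebra k R] [Algebra k A] [Algebra k K] [Algebra R A] [IsScalarTower k R A] (p : Ideal R) [p.IsPrime]
    [IsLocalization.AtPrime A p] (Q : Ideal (R ⊗[k] K)) [Q.IsPrime] (hQ : Q.under R = p) :
    ∃ (q : Ideal (A ⊗[k] K)) (_ : q.IsPrime),
      q.comap (Algebra.TensorProduct.map (IsScalarTower.toAlgHom k R A) (AlgHom.id k K)) = Q := by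
  letI : Algebra (R ⊗[k] K) (A ⊗[k] K) :=
    (Algebra.TensorProduct.map (IsScalarTower.toAlgHom k R A) (AlgHom.id k K)).toRingHom.toAlgebra
  haveI : IsScalarTower R (R ⊗[k] K) (A ⊗[k] K) := .of_algebraMap_eq fun r => by
    show algebraMap R A r ⊗ₜ[k] (1 : K) = Algebra.TensorProduct.map _ _ (r ⊗ₜ[k] (1 : K))
    rw [Algebra.TensorProduct.map_tmul, map_one]
    rfl
  haveI : IsLocalization (Algebra.algebraMapSubmonoid (R ⊗[k] K) p.primeCompl) (A ⊗[k] K) :=
    IsLocalization.tensorProduct_tensorProduct k K p.primeCompl A (RingHom.ext fun z => by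
      show Algebra.TensorProduct.map _ _ ((1 : R) ⊗ₜ[k] z) = (1 : A) ⊗ₜ[k] z
      rw [Algebra.TensorProduct.map_tmul, map_one]
      rfl)
  have hd : Disjoint (Algebra.algebraMapSubmonoid (R ⊗[k] K) p.primeCompl : Set (R ⊗[k] K)) (Q : Set _) :=
    Set.disjoint_left.2 (by
      rintro _ ⟨r, hr, rfl⟩ hrQ
      exact hr (hQ ▸ hrQ : r ∈ p))
  exact ⟨Q.map (algebraMap _ (A ⊗[k] K)), IsLocalization.isPrime_of_isPrime_disjoint _ _ Q ‹_› hd,
    IsLocalization.under_map_of_isPrime_disjoint _ _ ‹_› hd⟩

/-- The local form of `isRegularRing_tensor_stalk`. -/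
theorem isRegularRing_tensor_local {R A K : Type u} [CommRing R] [CommRing A] [Field K]
    [Algebra k R] [Algebra k A] [Algebra k K] [Algebra R A] [IsScalarTower k R A] (p : Ideal R) [p.IsPrime]
    [IsLocalization.AtPrime A p] [IsNoetherianRing A] [FiniteDimensional k K]
    (h : ∀ (Q : Ideal (R ⊗[k] K)) [Q.IsPrime], Q.under R = p → IsRegularLocalRing (Localization.AtPrime Q)) :
    IsRegularRing (A ⊗[k] K) := by
  haveI : IsNoetherianRing (A ⊗[k] K) := IsNoetherianRing.of_finite A (A ⊗[k] K)
  rw [isRegularRing_iff]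
  intro q _
  obtain ⟨m, hm, hqm⟩ := Ideal.exists_le_maximal q (Ideal.IsPrime.ne_top ‹_›)
  haveI := hm.isPrime
  haveI : Algebra.IsIntegral A (A ⊗[k] K) := Algebra.IsIntegral.of_finite _ _
  haveI : IsLocalRing A := IsLocalization.AtPrime.isLocalRing A (p)
  have hmA : m.under A = IsLocalRing.maximalIdeal A :=
    IsLocalRing.eq_maximalIdeal (Ideal.isMaximal_comap_of_isIntegral_of_isMaximal m)
  let φ := Algebra.TensorProduct.map (IsScalarTower.toAlgHom k R A) (AlgHom.id k K)
  haveI : (m.comap φ).IsPrime := Ideal.comap_isPrime _ _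
  have hover : (m.comap φ).under R = p := by
    have : (m.under A).comap (algebraMap R A) = p := by
      rw [hmA]; exact IsLocalization.AtPrime.comap_maximalIdeal A _
    rw [← this]
    ext r
    show φ (r ⊗ₜ[k] (1 : K)) ∈ m ↔ algebraMap R A r ⊗ₜ[k] (1 : K) ∈ m
    rw [Algebra.TensorProduct.map_tmul, map_one]
    rfl
  have hz := h (m.comap φ) hover
  haveI : IsRegularLocalRing (Localization.AtPrime m) :=
    (isRegularLocalRing_tensor_localization_iff (k := k)
      (p).primeCompl m).2 hz
  haveI := RegLoc6.isRegularRing_of_isRegularLocalRing (Localization.AtPrime m)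
  have hd : Disjoint (m.primeCompl : Set (A ⊗[k] K)) (q : Set _) :=
    Set.disjoint_left.2 fun y hy hy' => hy (hqm hy')
  haveI := IsLocalization.isPrime_of_isPrime_disjoint m.primeCompl (Localization.AtPrime m) q ‹_› hd
  have := (RegLoc6.regular_iff_localization m.primeCompl (Localization.AtPrime m)
    (q.map (algebraMap _ (Localization.AtPrime m)))).1 (IsRegularRing.isRegularLocalRing_localization _)
  have key : ∀ (p : Ideal (A ⊗[k] K)) [p.IsPrime], p = q → IsRegularLocalRing (Localization.AtPrime p) →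
      IsRegularLocalRing (Localization.AtPrime q) := by
    intro p _ h hp; subst h; exact hp
  exact key _ (IsLocalization.under_map_of_isPrime_disjoint m.primeCompl _ ‹_› hd) this

/-- Regularity at the points over `x` after a finite extension gives regularity of the base change of
the local ring. -/
theorem isRegularRing_tensor_stalk [IsLocallyNoetherian X] (x : X) (K : Type u) [Field K] [Algebra k K]
    [FiniteDimensional k K]
    (h : ∀ x' : Curv2.bc k X K, Curv2.bcFst k X K x' = x →
      IsRegularLocalRing ((Curv2.bc k X K).presheaf.stalk x')) :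
    IsRegularRing (X.presheaf.stalk x ⊗[k] K) := by
  obtain ⟨c, P, rfl⟩ := exists_chart (k := k) x
  obtain ⟨_, _, _⟩ := c.exists_stalk_algebra P
  refine isRegularRing_tensor_local (PrimeSpectrum.asIdeal (R := c.R) P) fun Q hQ hQP => ?_
  exact (isRegularLocalRing_stalk_bcEmb_iff c K ⟨Q, hQ⟩).1 (h _ ((c.bcEmb_fst_eq_iff K P ⟨Q, hQ⟩).2 hQP))

/-- Regularity of the base change of the local ring gives regularity at the points over `x`. -/
theorem isRegularLocalRing_of_isRegularRing_tensor_stalk (x : X) (K : Type u) [Field K] [Algebra k K]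
    [IsRegularRing (X.presheaf.stalk x ⊗[k] K)] (x' : Curv2.bc k X K) (hx : Curv2.bcFst k X K x' = x) :
    IsRegularLocalRing ((Curv2.bc k X K).presheaf.stalk x') := by
  obtain ⟨c, P, rfl⟩ := exists_chart (k := k) x
  obtain ⟨_, _, _⟩ := c.exists_stalk_algebra P
  obtain ⟨Q, rfl⟩ := c.exists_bcEmb_eq K P x' hx
  haveI : (PrimeSpectrum.asIdeal (R := c.R ⊗[k] K) Q).IsPrime := Q.2
  rw [isRegularLocalRing_stalk_bcEmb_iff]
  obtain ⟨q, _, hq⟩ := exists_prime_comap (k := k) (A := X.presheaf.stalk (c.emb P))
    (PrimeSpectrum.asIdeal (R := c.R) P) (PrimeSpectrum.asIdeal (R := c.R ⊗[k] K) Q)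
    ((c.bcEmb_fst_eq_iff K P Q).1 hx)
  have := (isRegularLocalRing_tensor_localization_iff (k := k)
    (PrimeSpectrum.asIdeal (R := c.R) P).primeCompl q).1 (IsRegularRing.isRegularLocalRing_localization q)
  have key : ∀ (p : Ideal (c.R ⊗[k] K)) [p.IsPrime], p = PrimeSpectrum.asIdeal (R := c.R ⊗[k] K) Q →
      IsRegularLocalRing (Localization.AtPrime p) →
      IsRegularLocalRing (Localization.AtPrime (PrimeSpectrum.asIdeal (R := c.R ⊗[k] K) Q)) := by
    intro p _ h hp; subst h; exact hp
  exact key _ hq this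

/-- Testing on finite purely inseparable extensions. -/
theorem isRegularRing_tensor_stalk_of_purelyInseparable [IsLocallyNoetherian X] (x : X)
    (h : ∀ (k' : Type u) [Field k'] [Algebra k k'] [FiniteDimensional k k'] [IsPurelyInseparable k k']
      (x' : Curv2.bc k X k'), Curv2.bcFst k X k' x' = x →
        IsRegularLocalRing ((Curv2.bc k X k').presheaf.stalk x'))
    (K : Type u) [Field K] [Algebra k K] [Algebra.EssFiniteType k K] :
    IsRegularRing (X.presheaf.stalk x ⊗[k] K) :=
  isRegularRing_tensor_of_purelyInseparable (k := k) (X.presheaf.stalk x)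
    (fun k' _ _ _ _ => isRegularRing_tensor_stalk x k' (h k')) K

theorem isGeomRegularAt_of_purelyInseparable [IsLocallyNoetherian X] (x : X)
    (h : ∀ (k' : Type u) [Field k'] [Algebra k k'] [FiniteDimensional k k'] [IsPurelyInseparable k k']
      (x' : Curv2.bc k X k'), Curv2.bcFst k X k' x' = x →
        IsRegularLocalRing ((Curv2.bc k X k').presheaf.stalk x')) :
    Curv2.IsGeomRegularAt k X x := by
  intro K _ _ hfg x' hx'
  haveI : Algebra.EssFiniteType k K := IntermediateField.fg_top_iff.1 hfg
  haveI := isRegularRing_tensor_stalk_of_purelyInseparable x h K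
  exact isRegularLocalRing_of_isRegularRing_tensor_stalk x K x' hx'

end Groth.Agent.SmoothReg
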