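import Groth.Agent.SmoothReg.Field
import Groth.Agent.VarDim.Basic
import Mathlib

/-! Reduced algebras of finite type over a perfect field with projective differentials are smooth. -/

universe u

set_option linter.style.haveILetI false
set_option linter.unusedSectionVars false

noncomputable section

open TensorProduct IsLocalRing Order

namespace Groth.Agent.SmoothReg

/-- The conormal sequence at a point with formally étale residue field is an isomorphism. -/
theorem finrank_cotangentSpace_eq {k P : Type u} [Field k] [CommRing P] [Algebra k P] [IsLocalRing P]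
    [Algebra.FormallyEtale k (ResidueField P)] [Module.Free P Ω[P⁄k]] [Module.Finite P Ω[P⁄k]] :
    Module.finrank (ResidueField P) (CotangentSpace P) = Module.finrank P Ω[P⁄k] := by
  let K := ResidueField P
  have hsurj : Function.Surjective (algebraMap P K) := IsLocalRing.residue_surjective
  let g := (IsScalarTower.toAlgHom k P K).kerSquareLift
  have hg : Function.Surjective g := fun z => by
    obtain ⟨y, rfl⟩ := hsurj z
    exact ⟨Ideal.Quotient.mk _ y, rfl⟩
  have hnil : IsNilpotent (RingHom.ker g.toRingHom) :=
    ⟨2, by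
      rw [show RingHom.ker g.toRingHom = _ from AlgHom.ker_kerSquareLift _]
      exact Ideal.cotangentIdeal_square _⟩
  obtain ⟨l, hl⟩ := (retractionKerCotangentToTensorEquivSection (R := k) hsurj).symm
    ⟨Algebra.FormallySmooth.liftOfSurjective (AlgHom.id k K) g hg hnil,
      Algebra.FormallySmooth.comp_liftOfSurjective _ _ hg hnil⟩
  have hinj : Function.Injective (KaehlerDifferential.kerCotangentToTensor k P K) :=
    Function.LeftInverse.injective (g := l) fun x => LinearMap.congr_fun hl x
  have hs : Function.Surjective (KaehlerDifferential.kerCotangentToTensor k P K) := fun z =>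
    ((KaehlerDifferential.exact_kerCotangentToTensor_mapBaseChange k P K hsurj) z).1
      (Subsingleton.elim _ _)
  let e₀ := LinearEquiv.ofBijective (KaehlerDifferential.kerCotangentToTensor k P K) ⟨hinj, hs⟩
  have key : ∀ I : Ideal P, I = maximalIdeal P → (I.Cotangent ≃ₗ[P] K ⊗[P] Ω[P⁄k]) →
      Module.finrank K (CotangentSpace P) = Module.finrank P Ω[P⁄k] := by
    rintro _ rfl e
    rw [(e.extendScalarsOfSurjective hsurj).finrank_eq, Module.finrank_baseChange]
  exact key _ IsLocalRing.ker_residue e₀

variable {k : Type u} [Field k] {A : Type u} [CommRing A] [Algebra k A] [Algebra.FiniteType k A]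

theorem rankAtStalk_kaehler (p : PrimeSpectrum A) :
    Module.rankAtStalk Ω[A⁄k] p =
      Module.finrank (Localization.AtPrime p.asIdeal) Ω[Localization.AtPrime p.asIdeal⁄k] := by
  haveI : IsLocalizedModule p.asIdeal.primeCompl
      (KaehlerDifferential.map k k A (Localization.AtPrime p.asIdeal)) := inferInstance
  exact ((IsLocalizedModule.linearEquiv p.asIdeal.primeCompl
    (LocalizedModule.mkLinearMap p.asIdeal.primeCompl Ω[A⁄k])
    (KaehlerDifferential.map k k A (Localization.AtPrime p.asIdeal))
    ).extendScalarsOfIsLocalization p.asIdeal.primeCompl (Localization.AtPrime p.asIdeal)).finrank_eq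

theorem free_finite_kaehler [Module.Projective A Ω[A⁄k]] (p : PrimeSpectrum A) :
    Module.Free (Localization.AtPrime p.asIdeal) Ω[Localization.AtPrime p.asIdeal⁄k] ∧
      Module.Finite (Localization.AtPrime p.asIdeal) Ω[Localization.AtPrime p.asIdeal⁄k] := by
  haveI : IsLocalizedModule p.asIdeal.primeCompl
      (KaehlerDifferential.map k k A (Localization.AtPrime p.asIdeal)) := inferInstance
  let e := ((IsLocalizedModule.linearEquiv p.asIdeal.primeCompl
    (LocalizedModule.mkLinearMap p.asIdeal.primeCompl Ω[A⁄k])
    (KaehlerDifferential.map k k A (Localization.AtPrime p.asIdeal))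
    ).extendScalarsOfIsLocalization p.asIdeal.primeCompl (Localization.AtPrime p.asIdeal))
  haveI : Module.Free (Localization.AtPrime p.asIdeal) (LocalizedModule p.asIdeal.primeCompl Ω[A⁄k]) :=
    Module.free_of_flat_of_isLocalRing
  exact ⟨Module.Free.of_equiv e, Module.Finite.equiv e⟩

theorem finrank_cotangentSpace_maximal [PerfectField k] [Module.Projective A Ω[A⁄k]]
    (m : PrimeSpectrum A) [m.asIdeal.IsMaximal] :
    Module.finrank (ResidueField (Localization.AtPrime m.asIdeal))
      (CotangentSpace (Localization.AtPrime m.asIdeal)) = Module.rankAtStalk Ω[A⁄k] m := by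
  obtain ⟨_, _⟩ := free_finite_kaehler (k := k) m
  haveI : Algebra.EssFiniteType k m.asIdeal.ResidueField :=
    Algebra.EssFiniteType.comp k A m.asIdeal.ResidueField
  haveI : Module.Finite k (A ⧸ m.asIdeal) :=
    letI := Ideal.Quotient.field m.asIdeal
    finite_of_finite_type_of_isJacobsonRing k (A ⧸ m.asIdeal)
  haveI : Module.Finite k m.asIdeal.ResidueField :=
    Module.Finite.of_surjective (IsScalarTower.toAlgHom k (A ⧸ m.asIdeal) m.asIdeal.ResidueField).toLinearMap
      (Ideal.bijective_algebraMap_quotient_residueField _).2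
  haveI : Algebra.FormallyEtale k (ResidueField (Localization.AtPrime m.asIdeal)) :=
    Algebra.FormallyEtale.of_isSeparable k m.asIdeal.ResidueField
  rw [finrank_cotangentSpace_eq (k := k), rankAtStalk_kaehler]

theorem isRegularLocalRing_of_isReduced [PerfectField k] [_root_.IsReduced A]
    [Module.Projective A Ω[A⁄k]] (m : PrimeSpectrum A) [m.asIdeal.IsMaximal] :
    IsRegularLocalRing (Localization.AtPrime m.asIdeal) := by
  haveI : IsNoetherianRing A := Algebra.FiniteType.isNoetherianRing k A
  haveI : Algebra.FinitePresentation k A := Algebra.FinitePresentation.of_finiteType.1 inferInstance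
  haveI : IsJacobsonRing A := isJacobsonRing_of_finiteType (A := k) (B := A)
  obtain ⟨η, hη, hηm⟩ := Ideal.exists_minimalPrimes_le (bot_le : ⊥ ≤ m.asIdeal)
  haveI := hη.1.1
  let ep : PrimeSpectrum A := ⟨η, hη.1.1⟩
  have hsm : ep ∈ Algebra.smoothLocus k A := by
    show Algebra.FormallySmooth k (Localization.AtPrime η)
    haveI : Ring.KrullDimLE 0 (Localization.AtPrime η) := Ring.krullDimLE_iff.2 (by
      rw [IsLocalization.AtPrime.ringKrullDim_eq_height η, Ideal.height_eq_zero_iff.2 hη]
      exact le_rfl)
    haveI := IsNoetherianRing.isArtinianRing_of_krullDimLE_zero (R := Localization.AtPrime η)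
    letI := (IsArtinianRing.isField_of_isReduced_of_isLocalRing (Localization.AtPrime η)).toField
    haveI : Algebra.EssFiniteType k (Localization.AtPrime η) :=
      Algebra.EssFiniteType.comp k A (Localization.AtPrime η)
    infer_instance
  obtain ⟨c, ⟨hc1, hc2⟩, hcc⟩ := nonempty_inter_closedPoints
    (Z := Algebra.smoothLocus k A ∩ PrimeSpectrum.zeroLocus (η : Set A)) ⟨ep, hsm, le_refl η⟩
    (Algebra.isOpen_smoothLocus.isLocallyClosed.inter
      (PrimeSpectrum.isClosed_zeroLocus _).isLocallyClosed)
  haveI : c.asIdeal.IsMaximal := (PrimeSpectrum.isClosed_singleton_iff_isMaximal c).1 hcc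
  haveI : Algebra.IsSmoothAt k c.asIdeal := hc1
  have hreg := CotTLib.isRegularLocalRing_of_isSmoothAt (k := k) c.asIdeal
  haveI := RegLoc6.isDomain_of_isRegularLocalRing (Localization.AtPrime c.asIdeal)
  have hηc : η ≤ c.asIdeal := hc2
  -- the unique minimal prime below `c`
  have huniq : ∀ q : PrimeSpectrum A, q ≤ c → η ≤ q.asIdeal := by
    intro q hq x hx
    have hmap : η.map (algebraMap A (Localization.AtPrime c.asIdeal)) = ⊥ := by
      have hdisj : Disjoint (c.asIdeal.primeCompl : Set A) (η : Set A) :=
        Set.disjoint_left.2 fun y hy hy' => hy (hηc hy')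
      obtain ⟨q', hq', hq'e⟩ := Ideal.exists_minimalPrimes_le (bot_le : (⊥ : Ideal A) ≤
        (⊥ : Ideal (Localization.AtPrime c.asIdeal)).comap (algebraMap A (Localization.AtPrime c.asIdeal)))
      have hle : (⊥ : Ideal (Localization.AtPrime c.asIdeal)).comap
          (algebraMap A (Localization.AtPrime c.asIdeal)) ≤ η := by
        intro y hy
        rw [Ideal.mem_comap, Ideal.mem_bot, IsLocalization.map_eq_zero_iff c.asIdeal.primeCompl] at hy
        obtain ⟨s, hs⟩ := hy
        exact ((hη.1.1).mem_or_mem (hs ▸ η.zero_mem : (s : A) * y ∈ η)).resolve_left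
          fun h => s.2 (hηc h)
      have h2 : η ≤ q' := hη.2 ⟨hq'.1.1, bot_le⟩ (hq'e.trans hle)
      rw [eq_bot_iff, Ideal.map_le_iff_le_comap]
      exact h2.trans hq'e
    have := Ideal.mem_map_of_mem (algebraMap A (Localization.AtPrime c.asIdeal)) hx
    rw [hmap, Ideal.mem_bot, IsLocalization.map_eq_zero_iff c.asIdeal.primeCompl] at this
    obtain ⟨s, hs⟩ := this
    exact (q.2.mem_or_mem (hs ▸ q.asIdeal.zero_mem : (s : A) * x ∈ q.asIdeal)).resolve_left
      fun h => s.2 (hq h)
  -- the dimension of the component
  obtain ⟨n, g, hinj, hint⟩ := exists_integral_inj_algHom_of_fg k (A ⧸ η)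
  obtain ⟨N, hN⟩ : ∃ N : ℕ, ringKrullDim (A ⧸ η) = N := by
    letI : Algebra (MvPolynomial (Fin n) k) (A ⧸ η) := g.toRingHom.toAlgebra
    haveI : FaithfulSMul (MvPolynomial (Fin n) k) (A ⧸ η) :=
      (faithfulSMul_iff_algebraMap_injective _ _).2 hinj
    haveI : Algebra.IsIntegral (MvPolynomial (Fin n) k) (A ⧸ η) := ⟨hint⟩
    exact ⟨n, by
      rw [VarDim.ringKrullDim_eq_of_isIntegral (R := MvPolynomial (Fin n) k) (S := A ⧸ η),
        MvPolynomial.ringKrullDim_of_isNoetherianRing, ringKrullDim_eq_zero_of_field, zero_add,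
        Nat.card_fin]⟩
  let π := Ideal.Quotient.mk η
  have hπ : StrictMono (PrimeSpectrum.comap π) := fun a b hab => by
    refine lt_of_le_of_ne (Ideal.comap_mono hab.le) fun h => hab.ne ?_
    exact PrimeSpectrum.comap_injective_of_surjective π Ideal.Quotient.mk_surjective h
  have hlift : ∀ q : PrimeSpectrum A, η ≤ q.asIdeal →
      ∃ q' : PrimeSpectrum (A ⧸ η), PrimeSpectrum.comap π q' = q := fun q hq => by
    have : q ∈ Set.range (PrimeSpectrum.comap π) := by
      rw [range_comap_of_surjective _ _ Ideal.Quotient.mk_surjective, Ideal.mk_ker]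
      exact hq
    exact this
  have hclosed : ∀ q : PrimeSpectrum A, q.asIdeal.IsMaximal → η ≤ q.asIdeal →
      (N : ℕ∞) ≤ height q ∧ ((∀ r : PrimeSpectrum A, r ≤ q → η ≤ r.asIdeal) → height q = N) := by
    intro q hqmax hq
    obtain ⟨q', rfl⟩ := hlift q hq
    have hco : coheight q' = 0 := by
      rw [coheight_eq_zero]
      intro b hb
      have := hqmax.eq_of_le (PrimeSpectrum.comap π b).2.ne_top (hπ.monotone hb)
      exact (PrimeSpectrum.comap_injective_of_surjective π Ideal.Quotient.mk_surjective
        (PrimeSpectrum.ext this)).ge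
    have hh : height q' = N := by
      have := VarDim.height_add_coheight_eq (k := k) N (A ⧸ η) hN q'
      rwa [hco, add_zero] at this
    refine ⟨hh ▸ height_le_height_apply_of_strictMono _ hπ q', fun hbelow => ?_⟩
    refine le_antisymm ?_ (hh ▸ height_le_height_apply_of_strictMono _ hπ q')
    rw [← hh]
    refine height_le fun l hl => ?_
    have hl' : ∀ i, l i ≤ PrimeSpectrum.comap π q' := fun i =>
      hl ▸ (LTSeries.monotone l (Fin.le_last i))
    choose f hf using fun i => hlift (l i) (hbelow _ (hl' i))
    have hmono : StrictMono f := fun i j hij => by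
      have h := l.strictMono hij
      rw [← hf i, ← hf j] at h
      refine lt_of_le_of_ne (fun x hx => ?_) fun he => h.ne (he ▸ rfl)
      obtain ⟨x, rfl⟩ := Ideal.Quotient.mk_surjective x
      exact h.le hx
    refine (length_le_height (p := LTSeries.mk l.length f hmono) ?_)
    refine le_of_eq (PrimeSpectrum.comap_injective_of_surjective π Ideal.Quotient.mk_surjective ?_)
    exact (hf _).trans hl
  have hrank : Module.rankAtStalk Ω[A⁄k] m = Module.rankAtStalk Ω[A⁄k] c := by
    have hc' : IsLocallyConstant (Module.rankAtStalk (R := A) Ω[A⁄k]) :=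
      Module.isLocallyConstant_rankAtStalk
    have h1 : ep ⤳ m := (PrimeSpectrum.le_iff_specializes ep m).1 hηm
    have h2 : ep ⤳ c := (PrimeSpectrum.le_iff_specializes ep c).1 hηc
    exact ((h1.map hc'.continuous).eq.symm).trans (h2.map hc'.continuous).eq
  rw [IsRegularLocalRing.iff_finrank_cotangentSpace, finrank_cotangentSpace_maximal (k := k),
    IsLocalization.AtPrime.ringKrullDim_eq_height c.asIdeal, PrimeSpectrum.height_eq_orderHeight,
    (hclosed c inferInstance hηc).2 huniq] at hreg
  refine IsRegularLocalRing.of_spanFinrank_maximalIdeal_le _ ?_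
  rw [IsLocalRing.spanFinrank_maximalIdeal_eq_finrank_cotangentSpace,
    finrank_cotangentSpace_maximal (k := k), hrank, hreg,
    IsLocalization.AtPrime.ringKrullDim_eq_height m.asIdeal, PrimeSpectrum.height_eq_orderHeight]
  exact WithBot.coe_le_coe.2 (hclosed m inferInstance hηm).1

end Groth.Agent.SmoothReg

end
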